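import Mathlib.Algebra.Category.Ring.Basic
import Mathlib.CategoryTheory.Comma.Over.Basic
import Mathlib.CategoryTheory.Category.Preorder
import Mathlib.CategoryTheory.Limits.HasLimits
import Mathlib.Order.Directed

/-!
# Recognising directed colimits of rings under a fixed ring
-/

set_option autoImplicit false
set_option backward.isDefEq.respectTransparency false
universe u

open CategoryTheory CategoryTheory.Limits

namespace GrothLib.NilPair8

variable {X : CommRingCat.{u}} {ι : Type u} [Preorder ι]

/-- A cocone on a directed system of rings under `X` is a colimit when it is jointly surjective and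
every element of a kernel dies at a later stage. -/
theorem isColimit_of_directed [IsDirectedOrder ι] [Nonempty ι] {F : ι ⥤ Under X} (c : Cocone F)
    (hs : ∀ b : c.pt.right, ∃ (j : ι) (x : (F.obj j).right), (c.ι.app j).right x = b)
    (hk : ∀ (j : ι) (x : (F.obj j).right), (c.ι.app j).right x = 0 →
      ∃ (k : ι) (h : j ≤ k), (F.map (homOfLE h)).right x = 0) : Nonempty (IsColimit c) := by
  choose J x hx using hs
  have up : ∀ (t : Cocone F) {j l : ι} (h : j ≤ l) (y : (F.obj j).right),
      (t.ι.app l).right ((F.map (homOfLE h)).right y) = (t.ι.app j).right y := fun t j l h y =>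
    congrArg (fun m : F.obj j ⟶ t.pt => m.right y) (t.w (homOfLE h))
  have wd : ∀ (t : Cocone F) (j : ι) (y : (F.obj j).right),
      (t.ι.app (J ((c.ι.app j).right y))).right (x ((c.ι.app j).right y)) = (t.ι.app j).right y := by
    intro t j y
    obtain ⟨l, h1, h2⟩ := exists_ge_ge (J ((c.ι.app j).right y)) j
    have h0 : (c.ι.app l).right ((F.map (homOfLE h1)).right (x ((c.ι.app j).right y)) -
        (F.map (homOfLE h2)).right y) = 0 := by
      rw [map_sub, up c h1, up c h2, hx, sub_self]
    obtain ⟨m, h3, hm⟩ := hk l _ h0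
    rw [← up t h1, ← up t h2, ← up t h3 ((F.map (homOfLE h1)).right (x ((c.ι.app j).right y))),
      ← up t h3 ((F.map (homOfLE h2)).right y)]
    congr 1
    rwa [map_sub, sub_eq_zero] at hm
  have rep : ∀ a b : c.pt.right, ∃ (l : ι) (p q : (F.obj l).right),
      (c.ι.app l).right p = a ∧ (c.ι.app l).right q = b := fun a b => by
    obtain ⟨l, h1, h2⟩ := exists_ge_ge (J a) (J b)
    exact ⟨l, _, _, (up c h1 _).trans (hx a), (up c h2 _).trans (hx b)⟩
  obtain ⟨j₀⟩ := ‹Nonempty ι›
  let σ : ∀ t : Cocone F, c.pt.right →+* t.pt.right := fun t =>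
    { toFun := fun b => (t.ι.app (J b)).right (x b)
      map_one' := by
        have h := wd t j₀ 1
        rwa [map_one, map_one] at h
      map_zero' := by
        have h := wd t j₀ 0
        rwa [map_zero, map_zero] at h
      map_add' := fun a b => by
        obtain ⟨l, p, q, rfl, rfl⟩ := rep a b
        have h := wd t l (p + q)
        rw [map_add, map_add] at h
        rw [h, wd, wd]
      map_mul' := fun a b => by
        obtain ⟨l, p, q, rfl, rfl⟩ := rep a b
        have h := wd t l (p * q)
        rw [map_mul, map_mul] at h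
        rw [h, wd, wd] }
  refine ⟨{
    desc := fun t => Under.homMk (CommRingCat.ofHom (σ t)) (CommRingCat.hom_ext (RingHom.ext fun a => ?_))
    fac := fun t j => ?_
    uniq := fun t m hm => ?_ }⟩
  · have e1 : (c.ι.app j₀).right ((F.obj j₀).hom a) = c.pt.hom a :=
      congrArg (fun m : X ⟶ c.pt.right => m a) (Under.w (c.ι.app j₀))
    have e2 : (t.ι.app j₀).right ((F.obj j₀).hom a) = t.pt.hom a :=
      congrArg (fun m : X ⟶ t.pt.right => m a) (Under.w (t.ι.app j₀))
    have h := wd t j₀ ((F.obj j₀).hom a)
    rw [e1, e2] at h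
    exact h
  · ext y
    exact wd t j y
  · ext b
    obtain ⟨l, p, -, rfl, -⟩ := rep b b
    exact (congrArg (fun k : F.obj l ⟶ t.pt => k.right p) (hm l)).trans (wd t l p).symm

end GrothLib.NilPair8
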