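import Groth.Agent.Lib.NilPair8.Stage

/-!
# Good stages are cofinal
-/

set_option autoImplicit false
universe u

namespace GrothLib.NilPair8

open MvPolynomial

variable {R B D D' : Type u} [CommRing R] [CommRing B] [CommRing D] [CommRing D'] [Algebra R B] [Algebra R D]
  [Algebra R D'] {d : Dat R B D D'}

/-- The properties inherited by the stages. -/
def Good (p : Raw d) : Prop :=
  (Function.Surjective d.f → Function.Surjective p.φ) ∧
  (Function.Surjective d.f → (∀ x, d.f x = 0 → IsNilpotent x) → ∀ x, p.φ x = 0 → IsNilpotent x) ∧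
  (d.f.toRingHom.IsIntegral → p.φ.toRingHom.IsIntegral)

theorem isIntegral_of_vars (p : Raw d)
    (h : ∀ t : p.T, p.φ.toRingHom.IsIntegralElem (Ideal.Quotient.mk p.J (X t))) : p.φ.toRingHom.IsIntegral := by
  intro x
  obtain ⟨x, rfl⟩ := Ideal.Quotient.mk_surjective x
  induction x using MvPolynomial.induction_on with
  | C r =>
    have e : Ideal.Quotient.mk p.J (C r) = p.φ.toRingHom (algebraMap R p.AB r) :=
      ((p.φ).commutes r).symm
    rw [e]
    exact RingHom.isIntegralElem_map _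
  | add a b ha hb => rw [map_add]; exact ha.add _ hb
  | mul_X a t ha => rw [map_mul]; exact ha.mul _ (h t)

theorem surjective_of_vars (p : Raw d) (h : ∀ t : p.T, ∃ y, p.φ y = Ideal.Quotient.mk p.J (X t)) :
    Function.Surjective p.φ := by
  intro x
  obtain ⟨x, rfl⟩ := Ideal.Quotient.mk_surjective x
  induction x using MvPolynomial.induction_on with
  | C r => exact ⟨algebraMap R p.AB r, p.φ.commutes r⟩
  | add a b ha hb =>
    obtain ⟨y, hy⟩ := ha
    obtain ⟨z, hz⟩ := hb
    exact ⟨y + z, by rw [map_add, map_add, hy, hz]⟩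
  | mul_X a t ha =>
    obtain ⟨y, hy⟩ := ha
    obtain ⟨z, hz⟩ := h t
    exact ⟨y * z, by rw [map_mul, map_mul, hy, hz]⟩

theorem φ_X (p : Raw d) (s : p.S) :
    p.φ (Ideal.Quotient.mk p.I (X s)) = Ideal.Quotient.mk p.J (X (⟨d.g s, p.hST s s.2⟩ : p.T)) := by
  simp [Raw.φ, ren]

theorem exists_surjective (p : Raw d) (hf : Function.Surjective d.f) :
    ∃ q : Raw d, p ≤ q ∧ Function.Surjective q.φ := by
  classical
  choose σ hσ using fun t : p.T => hf (d.i t)
  let S' := p.S ∪ Finset.univ.image σ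
  let T' := p.T ∪ S'.image d.g
  have hST' : ∀ s ∈ S', d.g s ∈ T' := fun s hs => Finset.mem_union_right _ (Finset.mem_image_of_mem _ hs)
  have hS : ∀ s ∈ p.S, id s ∈ S' := fun s hs => Finset.mem_union_left _ hs
  have hT : ∀ t ∈ p.T, id t ∈ T' := fun t ht => Finset.mem_union_left _ ht
  have hσS : ∀ t, σ t ∈ S' := fun t => Finset.mem_union_right _ (Finset.mem_image_of_mem _ (Finset.mem_univ t))
  let r : p.T → MvPolynomial T' R := fun t => X (⟨t, hT t t.2⟩ : T') - X (⟨d.g (σ t), hST' _ (hσS t)⟩ : T')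
  obtain ⟨q, hpq, rfl', rfl'', h1, h2, -, -, he⟩ := p.exists_ge S' T' hST' hS hT ∅ (by simp) ∅ (by simp)
    (Finset.univ.image r) (by
      intro x hx
      obtain ⟨t, -, rfl⟩ := Finset.mem_image.1 hx
      simp [r, ev, d.hg, hσ])
  refine ⟨q, hpq, surjective_of_vars q fun t => ?_⟩
  rcases Finset.mem_union.1 (rfl''.le t.2) with ht | ht
  · refine ⟨Ideal.Quotient.mk q.I (X (⟨σ ⟨t, ht⟩, h1 _ (hσS _)⟩ : q.S)), ?_⟩
    rw [φ_X]
    refine (Ideal.Quotient.eq.2 ?_).symm
    have h := he _ (Finset.mem_image_of_mem r (Finset.mem_univ ⟨t, ht⟩))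
    simpa [r, ren] using h
  · obtain ⟨s, hs, hst⟩ := Finset.mem_image.1 ht
    exact ⟨Ideal.Quotient.mk q.I (X (⟨s, h1 s hs⟩ : q.S)), (φ_X q _).trans (by simp [hst])⟩

theorem exists_nil (p : Raw d) (hs : Function.Surjective p.φ) (hn : ∀ x, d.f x = 0 → IsNilpotent x) :
    ∃ (q : Raw d) (h : p ≤ q), Function.Surjective q.φ ∧ (∀ x, q.φ x = 0 → IsNilpotent x) ∧
      Function.Surjective (Raw.trB h) ∧ Function.Surjective (Raw.trD h) := by
  classical
  haveI : Algebra.FinitePresentation R p.AD := Algebra.FinitePresentation.quotient p.hJ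
  let π : MvPolynomial p.S R →ₐ[R] p.AD := p.φ.comp (Ideal.Quotient.mkₐ R p.I)
  obtain ⟨G, hG⟩ := Algebra.FinitePresentation.ker_fG_of_surjective π (hs.comp Ideal.Quotient.mk_surjective)
  have hnil : ∀ l : G, ∃ N : ℕ, ev p.S (l : MvPolynomial p.S R) ^ N = 0 := fun l => by
    refine hn _ ?_
    have h0 : π l = 0 := hG.le (Ideal.subset_span l.2)
    have h1 := (AlgHom.congr_fun p.cD_φ (Ideal.Quotient.mk p.I l.1)).symm
    refine Eq.trans ?_ (h1.trans ((congrArg p.cD h0).trans (map_zero _)))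
    simp [Raw.cB]
  choose N hN using hnil
  let a : Finset (MvPolynomial p.S R) := Finset.univ.image fun l : G => (l : MvPolynomial p.S R) ^ (N l + 1)
  have hπ : ∀ x : MvPolynomial p.S R, π x = 0 → ren d.g p.hST x ∈ p.J := fun x h =>
    Ideal.Quotient.eq_zero_iff_mem.1 h
  let q : Raw d :=
    { p with
      I := p.I ⊔ Ideal.span a
      hI := Submodule.FG.sup p.hI ⟨a, rfl⟩
      leI := sup_le p.leI (Ideal.span_le.2 fun x hx => by
        obtain ⟨l, -, rfl⟩ := Finset.mem_image.1 hx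
        show ev p.S _ = 0
        rw [map_pow, pow_succ, hN, zero_mul])
      hIJ := sup_le p.hIJ (Ideal.span_le.2 fun x hx => by
        obtain ⟨l, -, rfl⟩ := Finset.mem_image.1 hx
        show ren d.g p.hST _ ∈ p.J
        rw [map_pow]
        exact Ideal.pow_mem_of_mem _ (hπ _ (hG.le (Ideal.subset_span l.2))) _ (Nat.succ_pos _)) }
  have hpq : p ≤ q := by
    refine ⟨fun _ h => h, fun _ h => h, fun x hx => ?_, fun x hx => ?_, fun x hx => ?_⟩ <;>
      rw [Ideal.mem_comap, ren_self]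
    · exact Ideal.mem_sup_left hx
    · exact hx
    · exact hx
  refine ⟨q, hpq, fun y => ?_, fun x hx => ?_, fun y => ?_, fun y => ?_⟩
  · obtain ⟨x, hx⟩ := hs y
    obtain ⟨x, rfl⟩ := Ideal.Quotient.mk_surjective x
    exact ⟨Ideal.Quotient.mk q.I x, hx⟩
  · obtain ⟨x, rfl⟩ := Ideal.Quotient.mk_surjective x
    have hker : RingHom.ker π.toRingHom ≤ q.I.radical := by
      rw [← hG, Ideal.span_le]
      exact fun l hl => ⟨N ⟨l, hl⟩ + 1, Ideal.mem_sup_right (Ideal.subset_span
        (Finset.mem_image.2 ⟨⟨l, hl⟩, Finset.mem_univ _, rfl⟩))⟩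
    obtain ⟨k, hk⟩ := hker (show π x = 0 from hx)
    exact ⟨k, by rw [← map_pow]; exact Ideal.Quotient.eq_zero_iff_mem.2 hk⟩
  · obtain ⟨x, rfl⟩ := Ideal.Quotient.mk_surjective y
    exact ⟨Ideal.Quotient.mk p.I x, by rw [Raw.trB_mk hpq fun _ h => h, ren_self]⟩
  · obtain ⟨x, rfl⟩ := Ideal.Quotient.mk_surjective y
    exact ⟨Ideal.Quotient.mk p.J x, by rw [Raw.trD_mk hpq fun _ h => h, ren_self]⟩

theorem exists_integral (p : Raw d) (hf : d.f.toRingHom.IsIntegral) :
    ∃ q : Raw d, p ≤ q ∧ q.φ.toRingHom.IsIntegral := by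
  classical
  choose P hPm hP using fun t : p.T => hf (d.i t)
  let S' := p.S ∪ Finset.univ.biUnion fun t => (Finset.range (P t).natDegree).image (P t).coeff
  let T' := p.T ∪ S'.image d.g
  have hST' : ∀ s ∈ S', d.g s ∈ T' := fun s hs => Finset.mem_union_right _ (Finset.mem_image_of_mem _ hs)
  have hS : ∀ s ∈ p.S, id s ∈ S' := fun s hs => Finset.mem_union_left _ hs
  have hT : ∀ t ∈ p.T, id t ∈ T' := fun t ht => Finset.mem_union_left _ ht
  have hc : ∀ (t : p.T) (k : Fin (P t).natDegree), (P t).coeff k ∈ S' := fun t k =>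
    Finset.mem_union_right _ (Finset.mem_biUnion.2 ⟨t, Finset.mem_univ _,
      Finset.mem_image_of_mem _ (Finset.mem_range.2 k.2)⟩)
  let Q : p.T → Polynomial (MvPolynomial S' R) := fun t =>
    Polynomial.X ^ (P t).natDegree + ∑ k : Fin (P t).natDegree,
      Polynomial.C (X (⟨(P t).coeff k, hc t k⟩ : S')) * Polynomial.X ^ (k : ℕ)
  have hQm : ∀ t, (Q t).Monic := fun t =>
    Polynomial.monic_X_pow_add (Polynomial.degree_sum_fin_lt _)
  have hQP : ∀ t, (Q t).map (ev (R := R) S').toRingHom = P t := fun t => by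
    conv_rhs => rw [(hPm t).as_sum]
    simp [Q, Polynomial.map_sum, ev, Fin.sum_univ_eq_sum_range
      (fun k => Polynomial.C ((P t).coeff k) * Polynomial.X ^ k)]
  let r : p.T → MvPolynomial T' R := fun t =>
    (Q t).eval₂ (ren d.g hST').toRingHom (X (⟨t, hT t t.2⟩ : T'))
  obtain ⟨q, hpq, rfl', rfl'', h1, h2, -, -, he⟩ := p.exists_ge S' T' hST' hS hT ∅ (by simp) ∅ (by simp)
    (Finset.univ.image r) (by
      intro x hx
      obtain ⟨t, -, rfl⟩ := Finset.mem_image.1 hx
      show (d.i.comp (ev T')).toRingHom ((Q t).eval₂ _ _) = 0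
      rw [Polynomial.hom_eval₂]
      have e : (d.i.comp (ev (R := R) T')).toRingHom.comp (ren d.g hST').toRingHom =
          d.f.toRingHom.comp (ev (R := R) S').toRingHom :=
        congrArg AlgHom.toRingHom (ev_gmap hST')
      have e' : (d.i.comp (ev (R := R) T')).toRingHom (X (⟨t, hT t t.2⟩ : T')) = d.i t := by simp [ev]
      rw [e, e', ← Polynomial.eval₂_map, hQP]
      exact hP t)
  refine ⟨q, hpq, isIntegral_of_vars q fun t => ?_⟩
  rcases Finset.mem_union.1 (rfl''.le t.2) with ht | ht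
  · refine ⟨(Q ⟨t, ht⟩).map ((Ideal.Quotient.mkₐ R q.I).comp (ren id h1)).toRingHom, (hQm _).map _, ?_⟩
    rw [Polynomial.eval₂_map]
    have h := Ideal.Quotient.eq_zero_iff_mem.2 (he _ (Finset.mem_image_of_mem r (Finset.mem_univ ⟨t, ht⟩)))
    have h' : ((Ideal.Quotient.mkₐ R q.J).comp (ren id h2)).toRingHom (r ⟨t, ht⟩) = 0 := h
    simp only [r] at h'
    rw [Polynomial.hom_eval₂] at h'
    have e : ((Ideal.Quotient.mkₐ R q.J).comp (ren (R := R) id h2)).toRingHom.comp (ren d.g hST').toRingHom =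
        q.φ.toRingHom.comp ((Ideal.Quotient.mkₐ R q.I).comp (ren id h1)).toRingHom := by
      refine congrArg AlgHom.toRingHom (algHom_ext fun e => ?_ :
        ((Ideal.Quotient.mkₐ R q.J).comp (ren id h2)).comp (ren d.g hST') =
          q.φ.comp ((Ideal.Quotient.mkₐ R q.I).comp (ren id h1)))
      simp [ren, Raw.φ]
    rw [e] at h'
    simpa [ren] using h'
  · obtain ⟨s, hs, hst⟩ := Finset.mem_image.1 ht
    have hv : q.φ.toRingHom (Ideal.Quotient.mk q.I (X (⟨s, h1 s hs⟩ : q.S))) = Ideal.Quotient.mk q.J (X t) :=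
      (φ_X q _).trans (by simp [hst])
    rw [← hv]
    exact RingHom.isIntegralElem_map _

/-- Good stages are cofinal. -/
theorem exists_good (p : Raw d) : ∃ q : Raw d, p ≤ q ∧ Good q := by
  by_cases hf : Function.Surjective d.f
  · obtain ⟨q, hq, hs⟩ := exists_surjective p hf
    have hint : ∀ q' : Raw d, Function.Surjective q'.φ → q'.φ.toRingHom.IsIntegral :=
      fun q' h => RingHom.isIntegral_of_surjective _ h
    by_cases hn : ∀ x, d.f x = 0 → IsNilpotent x
    · obtain ⟨q', hq', hs', hn', -⟩ := exists_nil q hs hn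
      exact ⟨q', hq.trans hq', fun _ => hs', fun _ _ => hn', fun _ => hint q' hs'⟩
    · exact ⟨q, hq, fun _ => hs, fun _ h => absurd h hn, fun _ => hint q hs⟩
  · by_cases hi : d.f.toRingHom.IsIntegral
    · obtain ⟨q, hq, h⟩ := exists_integral p hi
      exact ⟨q, hq, fun h' => absurd h' hf, fun h' => absurd h' hf, fun _ => h⟩
    · exact ⟨p, le_rfl, fun h' => absurd h' hf, fun h' => absurd h' hf, fun h' => absurd h' hi⟩

end GrothLib.NilPair8
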