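import Groth.Agent.Lib.NilPair8.Colim
import Groth.Agent.Lib.NilPair8.Good
import Mathlib.Algebra.Category.Ring.Constructions
import Mathlib.RingTheory.RingHom.FinitePresentation
import Mathlib.CategoryTheory.Filtered.Basic
import Mathlib.CategoryTheory.Limits.Shapes.Pullback.IsPullback.Defs

/-!
# A locally nilpotent thickening and a map are a colimit of finitely presented such data
-/

set_option autoImplicit false
set_option backward.isDefEq.respectTransparency false
universe u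

open CategoryTheory CategoryTheory.Limits

namespace GrothLib.NilPair8

open MvPolynomial

variable {R B D D' : Type u} [CommRing R] [CommRing B] [CommRing D] [CommRing D'] [Algebra R B] [Algebra R D]
  [Algebra R D']

/-- An algebra as an object under `R`. -/
abbrev obj (A : Type u) [CommRing A] [Algebra R A] : Under (CommRingCat.of R) :=
  Under.mk (CommRingCat.ofHom (algebraMap R A))

/-- An algebra map as a morphism under `R`. -/
abbrev hom {A A' : Type u} [CommRing A] [CommRing A'] [Algebra R A] [Algebra R A'] (g : A →ₐ[R] A') :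
    obj (R := R) A ⟶ obj A' :=
  Under.homMk (CommRingCat.ofHom g.toRingHom) (CommRingCat.hom_ext (RingHom.ext fun a => g.commutes a))

variable (d : Dat R B D D')

/-- The stages. -/
abbrev Idx : Type u := {p : Raw d // Good p}

variable {d}

theorem exists_idx_ge (p : Raw d) : ∃ q : Idx d, p ≤ q.1 := by
  obtain ⟨q, hq, hg⟩ := exists_good p
  exact ⟨⟨q, hg⟩, hq⟩

/-- A stage with prescribed variables and relations. -/
theorem exists_idx (p : Raw d) (S' : Finset B) (T' : Finset D')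
    (a : Finset (MvPolynomial p.S R)) (ha : ∀ x ∈ a, ev p.S x = 0)
    (b : Finset (MvPolynomial p.T R)) (hb : ∀ x ∈ b, ev p.T x = 0)
    (e : Finset (MvPolynomial p.T R)) (he : ∀ x ∈ e, d.i (ev p.T x) = 0) :
    ∃ (q : Idx d) (h : p ≤ q.1), (∀ s ∈ S', s ∈ q.1.S) ∧ (∀ t ∈ T', t ∈ q.1.T) ∧
      (∀ x ∈ a, Raw.trB h (Ideal.Quotient.mk p.I x) = 0) ∧
      (∀ x ∈ b, Raw.trD' h (Ideal.Quotient.mk p.K x) = 0) ∧
      (∀ x ∈ e, Raw.trD h (Ideal.Quotient.mk p.J x) = 0) := by
  classical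
  let S'' := p.S ∪ S'
  let T'' := p.T ∪ T' ∪ S''.image d.g
  have hST : ∀ s ∈ S'', d.g s ∈ T'' := fun s hs => Finset.mem_union_right _ (Finset.mem_image_of_mem _ hs)
  have hS : ∀ s ∈ p.S, id s ∈ S'' := fun s hs => Finset.mem_union_left _ hs
  have hT : ∀ t ∈ p.T, id t ∈ T'' := fun t ht => Finset.mem_union_left _ (Finset.mem_union_left _ ht)
  have hev : ∀ x : MvPolynomial p.T R, ev T'' (ren id hT x) = ev p.T x := fun x => AlgHom.congr_fun (ev_ren hT) x
  obtain ⟨r, hpr, rfl', rfl'', h1, h2, ha', hb', he'⟩ := p.exists_ge S'' T'' hST hS hT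
    (a.image (ren id hS)) (by
      intro x hx
      obtain ⟨y, hy, rfl⟩ := Finset.mem_image.1 hx
      exact (AlgHom.congr_fun (ev_ren hS) y).trans (ha y hy))
    (b.image (ren id hT)) (by
      intro x hx
      obtain ⟨y, hy, rfl⟩ := Finset.mem_image.1 hx
      rw [hev]; exact hb y hy)
    (e.image (ren id hT)) (by
      intro x hx
      obtain ⟨y, hy, rfl⟩ := Finset.mem_image.1 hx
      rw [hev]; exact he y hy)
  obtain ⟨q, hrq⟩ := exists_idx_ge r
  obtain ⟨k1, k2, l1, l2, l3⟩ := id hrq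
  refine ⟨q, hpr.trans hrq, fun s hs => k1 s (h1 s (Finset.mem_union_right _ hs)),
    fun t ht => k2 t (h2 t (Finset.mem_union_left _ (Finset.mem_union_right _ ht))),
    fun x hx => ?_, fun x hx => ?_, fun x hx => ?_⟩
  · rw [Raw.trB_mk _ (fun s hs => k1 s (h1 s (hS s hs))), Ideal.Quotient.eq_zero_iff_mem]
    have h := l1 (ha' _ (Finset.mem_image_of_mem _ hx))
    rw [Ideal.mem_comap] at h
    simpa [ren, rename_rename, Function.comp_def] using h
  · rw [Raw.trD'_mk _ (fun s hs => k2 s (h2 s (hT s hs))), Ideal.Quotient.eq_zero_iff_mem]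
    have h := l2 (hb' _ (Finset.mem_image_of_mem _ hx))
    rw [Ideal.mem_comap] at h
    simpa [ren, rename_rename, Function.comp_def] using h
  · rw [Raw.trD_mk _ (fun s hs => k2 s (h2 s (hT s hs))), Ideal.Quotient.eq_zero_iff_mem]
    have h := l3 (he' _ (Finset.mem_image_of_mem _ hx))
    rw [Ideal.mem_comap] at h
    simpa [ren, rename_rename, Function.comp_def] using h

variable (d) in
/-- The empty stage. -/
noncomputable def rawBot : Raw d where
  S := ∅
  T := ∅
  hST _ h := absurd h (Finset.notMem_empty _)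
  I := ⊥
  K := ⊥
  J := ⊥
  hI := Submodule.fg_bot
  hK := Submodule.fg_bot
  hJ := Submodule.fg_bot
  leI := bot_le
  leK := bot_le
  leJ := bot_le
  hKJ := le_rfl
  hJK := Ideal.le_radical
  hIJ := bot_le

instance : Nonempty (Idx d) := ⟨(exists_idx_ge (rawBot d)).choose⟩

theorem directed (p q : Idx d) : ∃ r : Idx d, p ≤ r ∧ q ≤ r := by
  classical
  -- first the union of the index sets
  let S' := p.1.S ∪ q.1.S
  let T' := p.1.T ∪ q.1.T
  have hST : ∀ s ∈ S', d.g s ∈ T' := fun s hs => by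
    rcases Finset.mem_union.1 hs with h | h
    · exact Finset.mem_union_left _ (p.1.hST s h)
    · exact Finset.mem_union_right _ (q.1.hST s h)
  have hS1 : ∀ s ∈ p.1.S, id s ∈ S' := fun s hs => Finset.mem_union_left _ hs
  have hS2 : ∀ s ∈ q.1.S, id s ∈ S' := fun s hs => Finset.mem_union_right _ hs
  have hT1 : ∀ s ∈ p.1.T, id s ∈ T' := fun s hs => Finset.mem_union_left _ hs
  have hT2 : ∀ s ∈ q.1.T, id s ∈ T' := fun s hs => Finset.mem_union_right _ hs
  let r : Raw d :=
    { S := S'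
      T := T'
      hST := hST
      I := p.1.I.map (ren id hS1) ⊔ q.1.I.map (ren id hS2)
      K := p.1.K.map (ren id hT1) ⊔ q.1.K.map (ren id hT2)
      J := p.1.J.map (ren id hT1) ⊔ q.1.J.map (ren id hT2)
      hI := Submodule.FG.sup (Ideal.FG.map p.1.hI _) (Ideal.FG.map q.1.hI _)
      hK := Submodule.FG.sup (Ideal.FG.map p.1.hK _) (Ideal.FG.map q.1.hK _)
      hJ := Submodule.FG.sup (Ideal.FG.map p.1.hJ _) (Ideal.FG.map q.1.hJ _)
      leI := sup_le (Ideal.map_le_iff_le_comap.2 fun x hx => (AlgHom.congr_fun (ev_ren hS1) x).trans (p.1.leI hx))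
        (Ideal.map_le_iff_le_comap.2 fun x hx => (AlgHom.congr_fun (ev_ren hS2) x).trans (q.1.leI hx))
      leK := sup_le (Ideal.map_le_iff_le_comap.2 fun x hx => (AlgHom.congr_fun (ev_ren hT1) x).trans (p.1.leK hx))
        (Ideal.map_le_iff_le_comap.2 fun x hx => (AlgHom.congr_fun (ev_ren hT2) x).trans (q.1.leK hx))
      leJ := sup_le
        (Ideal.map_le_iff_le_comap.2 fun x hx =>
          (congrArg d.i (AlgHom.congr_fun (ev_ren hT1) x)).trans (p.1.leJ hx))
        (Ideal.map_le_iff_le_comap.2 fun x hx =>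
          (congrArg d.i (AlgHom.congr_fun (ev_ren hT2) x)).trans (q.1.leJ hx))
      hKJ := sup_le_sup (Ideal.map_mono p.1.hKJ) (Ideal.map_mono q.1.hKJ)
      hJK := sup_le
        ((Ideal.map_mono p.1.hJK).trans ((Ideal.map_radical_le _).trans (Ideal.radical_mono le_sup_left)))
        ((Ideal.map_mono q.1.hJK).trans ((Ideal.map_radical_le _).trans (Ideal.radical_mono le_sup_right)))
      hIJ := sup_le
        (Ideal.map_le_iff_le_comap.2 fun x hx => by
          rw [Ideal.mem_comap, Ideal.mem_comap, ← AlgHom.comp_apply, gmap_ren hS1 hT1 p.1.hST hST]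
          exact Ideal.mem_sup_left (Ideal.mem_map_of_mem _ (p.1.hIJ hx)))
        (Ideal.map_le_iff_le_comap.2 fun x hx => by
          rw [Ideal.mem_comap, Ideal.mem_comap, ← AlgHom.comp_apply, gmap_ren hS2 hT2 q.1.hST hST]
          exact Ideal.mem_sup_right (Ideal.mem_map_of_mem _ (q.1.hIJ hx))) }
  obtain ⟨t, ht⟩ := exists_idx_ge r
  have h1 : p.1 ≤ r := ⟨hS1, hT1, Ideal.map_le_iff_le_comap.1 le_sup_left,
    Ideal.map_le_iff_le_comap.1 le_sup_left, Ideal.map_le_iff_le_comap.1 le_sup_left⟩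
  have h2 : q.1 ≤ r := ⟨hS2, hT2, Ideal.map_le_iff_le_comap.1 le_sup_right,
    Ideal.map_le_iff_le_comap.1 le_sup_right, Ideal.map_le_iff_le_comap.1 le_sup_right⟩
  exact ⟨t, h1.trans ht, h2.trans ht⟩

instance : IsDirectedOrder (Idx d) := ⟨directed⟩

theorem trB_id (p : Raw d) (h : p ≤ p) : Raw.trB h = AlgHom.id R _ :=
  Ideal.Quotient.algHom_ext _ (algHom_ext fun e => by simp [Raw.trB, ren])

theorem trD'_id (p : Raw d) (h : p ≤ p) : Raw.trD' h = AlgHom.id R _ :=
  Ideal.Quotient.algHom_ext _ (algHom_ext fun e => by simp [Raw.trD', ren])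

theorem trD_id (p : Raw d) (h : p ≤ p) : Raw.trD h = AlgHom.id R _ :=
  Ideal.Quotient.algHom_ext _ (algHom_ext fun e => by simp [Raw.trD, ren])

theorem trB_comp {p q r : Raw d} (h : p ≤ q) (h' : q ≤ r) :
    Raw.trB (h.trans h') = (Raw.trB h').comp (Raw.trB h) :=
  Ideal.Quotient.algHom_ext _ (algHom_ext fun e => by simp [Raw.trB, ren])

theorem trD'_comp {p q r : Raw d} (h : p ≤ q) (h' : q ≤ r) :
    Raw.trD' (h.trans h') = (Raw.trD' h').comp (Raw.trD' h) :=
  Ideal.Quotient.algHom_ext _ (algHom_ext fun e => by simp [Raw.trD', ren])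

theorem trD_comp {p q r : Raw d} (h : p ≤ q) (h' : q ≤ r) :
    Raw.trD (h.trans h') = (Raw.trD h').comp (Raw.trD h) :=
  Ideal.Quotient.algHom_ext _ (algHom_ext fun e => by simp [Raw.trD, ren])

theorem mem_fp {p q : Raw d} (h : p ≤ q) (x : p.AB × p.AD')
    (hx : x ∈ AlgHom.equalizer (p.φ.comp (AlgHom.fst R _ _)) (p.ψ.comp (AlgHom.snd R _ _))) :
    ((Raw.trB h).comp (AlgHom.fst R _ _)).prod ((Raw.trD' h).comp (AlgHom.snd R _ _)) x ∈
      AlgHom.equalizer (q.φ.comp (AlgHom.fst R _ _)) (q.ψ.comp (AlgHom.snd R _ _)) := by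
  rw [AlgHom.mem_equalizer] at hx ⊢
  show q.φ.comp (Raw.trB h) x.1 = q.ψ.comp (Raw.trD' h) x.2
  rw [Raw.φ_trB, Raw.ψ_trD', AlgHom.comp_apply, AlgHom.comp_apply]
  exact congrArg (Raw.trD h) hx

/-- The fibre product at a stage. -/
noncomputable abbrev fp (p : Raw d) : Subalgebra R (p.AB × p.AD') :=
  AlgHom.equalizer (p.φ.comp (AlgHom.fst R _ _)) (p.ψ.comp (AlgHom.snd R _ _))

/-- The transition maps of fibre products. -/
noncomputable def trP {p q : Raw d} (h : p ≤ q) : fp p →ₐ[R] fp q :=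
  ((((Raw.trB h).comp (AlgHom.fst R _ _)).prod ((Raw.trD' h).comp (AlgHom.snd R _ _))).comp (fp p).val).codRestrict
    _ fun x => mem_fp h x.1 x.2

variable (d) in
/-- The system of `B`. -/
noncomputable def sysB : Idx d ⥤ Under (CommRingCat.of R) where
  obj p := obj p.1.AB
  map h := hom (Raw.trB (leOfHom h))
  map_id p := by ext x; exact AlgHom.congr_fun (trB_id p.1 (le_refl _)) x
  map_comp h h' := by ext x; exact AlgHom.congr_fun (trB_comp (leOfHom h) (leOfHom h')) x

variable (d) in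
/-- The system of `D'`. -/
noncomputable def sysD' : Idx d ⥤ Under (CommRingCat.of R) where
  obj p := obj p.1.AD'
  map h := hom (Raw.trD' (leOfHom h))
  map_id p := by ext x; exact AlgHom.congr_fun (trD'_id p.1 (le_refl _)) x
  map_comp h h' := by ext x; exact AlgHom.congr_fun (trD'_comp (leOfHom h) (leOfHom h')) x

variable (d) in
/-- The system of `D`. -/
noncomputable def sysD : Idx d ⥤ Under (CommRingCat.of R) where
  obj p := obj p.1.AD
  map h := hom (Raw.trD (leOfHom h))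
  map_id p := by ext x; exact AlgHom.congr_fun (trD_id p.1 (le_refl _)) x
  map_comp h h' := by ext x; exact AlgHom.congr_fun (trD_comp (leOfHom h) (leOfHom h')) x

variable (d) in
/-- The system of fibre products. -/
noncomputable def sysP : Idx d ⥤ Under (CommRingCat.of R) where
  obj p := obj (fp p.1)
  map h := hom (trP (leOfHom h))
  map_id p := by
    ext x
    exact Subtype.ext (Prod.ext (AlgHom.congr_fun (trB_id p.1 (le_refl _)) x.1.1)
      (AlgHom.congr_fun (trD'_id p.1 (le_refl _)) x.1.2))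
  map_comp h h' := by
    ext x
    exact Subtype.ext (Prod.ext (AlgHom.congr_fun (trB_comp (leOfHom h) (leOfHom h')) x.1.1)
      (AlgHom.congr_fun (trD'_comp (leOfHom h) (leOfHom h')) x.1.2))

theorem fp_obj {A : Type u} [CommRing A] [Algebra R A] [Algebra.FinitePresentation R A] :
    (obj (R := R) A).hom.hom.FinitePresentation :=
  show (algebraMap R A).FinitePresentation from RingHom.finitePresentation_algebraMap.2 inferInstance

theorem main {P : Type u} [CommRing P] [Algebra R P] (f : B →ₐ[R] D) (i : D' →ₐ[R] D)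
    (hi : Function.Surjective i) (hnil : ∀ x ∈ RingHom.ker i.toRingHom, IsNilpotent x)
    (q₁ : P →ₐ[R] B) (q₂ : P →ₐ[R] D')
    (hP : IsPullback (CommRingCat.ofHom q₁.toRingHom) (CommRingCat.ofHom q₂.toRingHom)
      (CommRingCat.ofHom f.toRingHom) (CommRingCat.ofHom i.toRingHom)) :
    ∃ (ι : Type u) (_ : SmallCategory ι) (_ : IsFiltered ι) (DB DD DD' DP : ι ⥤ Under (CommRingCat.of R))
      (φ : DB ⟶ DD) (ψ : DD' ⟶ DD) (π₁ : DP ⟶ DB) (π₂ : DP ⟶ DD')
      (cB : DB ⟶ (Functor.const ι).obj (Under.mk (CommRingCat.ofHom (algebraMap R B))))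
      (cD : DD ⟶ (Functor.const ι).obj (Under.mk (CommRingCat.ofHom (algebraMap R D))))
      (cD' : DD' ⟶ (Functor.const ι).obj (Under.mk (CommRingCat.ofHom (algebraMap R D'))))
      (cP : DP ⟶ (Functor.const ι).obj (Under.mk (CommRingCat.ofHom (algebraMap R P)))),
      Nonempty (IsColimit (Cocone.mk _ cB)) ∧ Nonempty (IsColimit (Cocone.mk _ cD)) ∧
      Nonempty (IsColimit (Cocone.mk _ cD')) ∧ Nonempty (IsColimit (Cocone.mk _ cP)) ∧
      (∀ j, (φ.app j).right ≫ (cD.app j).right = (cB.app j).right ≫ CommRingCat.ofHom f.toRingHom) ∧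
      (∀ j, (ψ.app j).right ≫ (cD.app j).right = (cD'.app j).right ≫ CommRingCat.ofHom i.toRingHom) ∧
      (∀ j, (π₁.app j).right ≫ (cB.app j).right = (cP.app j).right ≫ CommRingCat.ofHom q₁.toRingHom) ∧
      (∀ j, (π₂.app j).right ≫ (cD'.app j).right = (cP.app j).right ≫ CommRingCat.ofHom q₂.toRingHom) ∧
      (∀ j, (DB.obj j).hom.hom.FinitePresentation ∧ (DD.obj j).hom.hom.FinitePresentation ∧
        (DD'.obj j).hom.hom.FinitePresentation) ∧
      (∀ j, Function.Surjective (ψ.app j).right.hom ∧ ∀ x ∈ RingHom.ker (ψ.app j).right.hom, IsNilpotent x) ∧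
      (∀ j, IsPullback (π₁.app j).right (π₂.app j).right (φ.app j).right (ψ.app j).right) ∧
      (Function.Surjective f → ∀ j, Function.Surjective (φ.app j).right.hom) ∧
      (Function.Surjective f → (∀ x ∈ RingHom.ker f.toRingHom, IsNilpotent x) →
        ∀ j, Function.Surjective (φ.app j).right.hom ∧ ∀ x ∈ RingHom.ker (φ.app j).right.hom, IsNilpotent x) ∧
      (f.toRingHom.IsIntegral → ∀ j, (φ.app j).right.hom.IsIntegral) := by
  classical
  let d : Dat R B D D' := ⟨f, i, fun b => Function.surjInv hi (f b), fun b => Function.surjInv_eq hi (f b), hi,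
    fun x hx => hnil x hx⟩
  -- points of the fibre product
  let C₀ := hP.isoIsPullback _ _ (IsPullback.of_isLimit (CommRingCat.pullbackConeIsLimit
    (CommRingCat.ofHom f.toRingHom) (CommRingCat.ofHom i.toRingHom)))
  have hC1 : ∀ y : P, (C₀.hom y).1 = (q₁ y, q₂ y) := fun y => Prod.ext
    (congr($(hP.isoIsPullback_hom_fst _ _ (IsPullback.of_isLimit (CommRingCat.pullbackConeIsLimit
      (CommRingCat.ofHom f.toRingHom) (CommRingCat.ofHom i.toRingHom)))) y))
    (congr($(hP.isoIsPullback_hom_snd _ _ (IsPullback.of_isLimit (CommRingCat.pullbackConeIsLimit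
      (CommRingCat.ofHom f.toRingHom) (CommRingCat.ofHom i.toRingHom)))) y))
  have hPu : ∀ y : P, q₁ y = 0 → q₂ y = 0 → y = 0 := fun y h1 h2 => by
    have h : C₀.hom y = 0 := Subtype.ext ((hC1 y).trans (Prod.ext h1 h2))
    rw [← CategoryTheory.Iso.hom_inv_id_apply C₀ y, h, map_zero]
  have hPe : ∀ b e, f b = i e → ∃ y, q₁ y = b ∧ q₂ y = e := fun b e h => by
    refine ⟨C₀.inv ⟨(b, e), h⟩, ?_⟩
    have h' := hC1 (C₀.inv ⟨(b, e), h⟩)
    rw [CategoryTheory.Iso.inv_hom_id_apply] at h'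
    exact ⟨(congrArg Prod.fst h').symm, (congrArg Prod.snd h').symm⟩
  choose pair hp1 hp2 using hPe
  let cPf : ∀ p : Raw d, fp p → P := fun p x => pair (p.cB x.1.1) (p.cD' x.1.2) (by
    have h1 := AlgHom.congr_fun p.cD_φ x.1.1
    have h2 := AlgHom.congr_fun p.cD_ψ x.1.2
    exact h1.symm.trans ((congrArg p.cD x.2).trans h2))
  have ext2 : ∀ y z : P, q₁ y = q₁ z → q₂ y = q₂ z → y = z := fun y z h1 h2 =>
    sub_eq_zero.1 (hPu _ (by rw [map_sub, h1, sub_self]) (by rw [map_sub, h2, sub_self]))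
  let cPh : ∀ p : Raw d, fp p →ₐ[R] P := fun p =>
    { toFun := cPf p
      map_one' := ext2 _ _ (by simp [cPf, hp1]) (by simp [cPf, hp2])
      map_zero' := ext2 _ _ (by simp [cPf, hp1]) (by simp [cPf, hp2])
      map_add' := fun x y => ext2 _ _ (by simp [cPf, hp1]) (by simp [cPf, hp2])
      map_mul' := fun x y => ext2 _ _ (by simp [cPf, hp1]) (by simp [cPf, hp2])
      commutes' := fun r => ext2 _ _ (by simp [cPf, hp1]) (by simp [cPf, hp2]) }
  let φ : sysB d ⟶ sysD d :=
    { app := fun p => hom p.1.φ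
      naturality := fun p q h => by ext x; exact AlgHom.congr_fun (Raw.φ_trB (leOfHom h)) x }
  let ψ : sysD' d ⟶ sysD d :=
    { app := fun p => hom p.1.ψ
      naturality := fun p q h => by ext x; exact AlgHom.congr_fun (Raw.ψ_trD' (leOfHom h)) x }
  let π₁ : sysP d ⟶ sysB d :=
    { app := fun p => hom ((AlgHom.fst R _ _).comp (fp p.1).val)
      naturality := fun p q h => by ext x; rfl }
  let π₂ : sysP d ⟶ sysD' d :=
    { app := fun p => hom ((AlgHom.snd R _ _).comp (fp p.1).val)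
      naturality := fun p q h => by ext x; rfl }
  let cB : sysB d ⟶ (Functor.const _).obj (obj B) :=
    { app := fun p => hom p.1.cB
      naturality := fun p q h => by ext x; exact AlgHom.congr_fun (Raw.cB_trB (leOfHom h)) x }
  let cD : sysD d ⟶ (Functor.const _).obj (obj D) :=
    { app := fun p => hom p.1.cD
      naturality := fun p q h => by ext x; exact AlgHom.congr_fun (Raw.cD_trD (leOfHom h)) x }
  let cD' : sysD' d ⟶ (Functor.const _).obj (obj D') :=
    { app := fun p => hom p.1.cD'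
      naturality := fun p q h => by ext x; exact AlgHom.congr_fun (Raw.cD'_trD' (leOfHom h)) x }
  let cP : sysP d ⟶ (Functor.const _).obj (obj P) :=
    { app := fun p => hom (cPh p.1)
      naturality := fun p q h => by
        ext x
        exact ext2 _ _
          ((hp1 _ _ _).trans ((AlgHom.congr_fun (Raw.cB_trB (leOfHom h)) x.1.1).trans (hp1 _ _ _).symm))
          ((hp2 _ _ _).trans ((AlgHom.congr_fun (Raw.cD'_trD' (leOfHom h)) x.1.2).trans (hp2 _ _ _).symm)) }
  -- a stage containing given variables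
  have hvar : ∀ (p : Idx d) (S' : Finset B) (T' : Finset D'), ∃ q : Idx d, p ≤ q ∧
      (∀ s ∈ S', s ∈ q.1.S) ∧ ∀ t ∈ T', t ∈ q.1.T := fun p S' T' => by
    obtain ⟨q, h, h1, h2, -⟩ := exists_idx p.1 S' T' ∅ (by simp) ∅ (by simp) ∅ (by simp)
    exact ⟨q, h, h1, h2⟩
  refine ⟨Idx d, inferInstance, inferInstance, sysB d, sysD d, sysD' d, sysP d, φ, ψ, π₁, π₂, cB, cD, cD', cP,
    isColimit_of_directed _ ?_ ?_, isColimit_of_directed _ ?_ ?_, isColimit_of_directed _ ?_ ?_,
    isColimit_of_directed _ ?_ ?_, fun j => ?_, fun j => ?_, fun j => ?_, fun j => ?_, fun j => ?_, fun j => ?_,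
    fun j => ?_, fun h j => j.2.1 h, fun h h' j => ⟨j.2.1 h, fun x hx => j.2.2.1 h (fun y hy => h' y hy) x hx⟩,
    fun h j => j.2.2.2 h⟩
  · intro b
    obtain ⟨q, -, h1, -⟩ := hvar (Classical.arbitrary _) {b} ∅
    exact ⟨q, Ideal.Quotient.mk q.1.I (X ⟨b, h1 b (Finset.mem_singleton_self b)⟩), ev_X (R := R) q.1.S ⟨b, _⟩⟩
  · intro p x hx
    obtain ⟨x, rfl⟩ := Ideal.Quotient.mk_surjective x
    obtain ⟨q, h, -, -, ha, -⟩ := exists_idx p.1 ∅ ∅ {x}
      (by intro y hy; rw [Finset.mem_singleton.1 hy]; exact hx) ∅ (by simp) ∅ (by simp)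
    exact ⟨q, h, ha x (Finset.mem_singleton_self x)⟩
  · intro b
    obtain ⟨e, rfl⟩ := hi b
    obtain ⟨q, -, -, h2⟩ := hvar (Classical.arbitrary _) ∅ {e}
    exact ⟨q, Ideal.Quotient.mk q.1.J (X ⟨e, h2 e (Finset.mem_singleton_self e)⟩),
      congrArg i (ev_X (R := R) q.1.T ⟨e, _⟩)⟩
  · intro p x hx
    obtain ⟨x, rfl⟩ := Ideal.Quotient.mk_surjective x
    obtain ⟨q, h, -, -, -, -, he⟩ := exists_idx p.1 ∅ ∅ ∅ (by simp) ∅ (by simp) {x}
      (by intro y hy; rw [Finset.mem_singleton.1 hy]; exact hx)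
    exact ⟨q, h, he x (Finset.mem_singleton_self x)⟩
  · intro e
    obtain ⟨q, -, -, h2⟩ := hvar (Classical.arbitrary _) ∅ {e}
    exact ⟨q, Ideal.Quotient.mk q.1.K (X ⟨e, h2 e (Finset.mem_singleton_self e)⟩), ev_X (R := R) q.1.T ⟨e, _⟩⟩
  · intro p x hx
    obtain ⟨x, rfl⟩ := Ideal.Quotient.mk_surjective x
    obtain ⟨q, h, -, -, -, hb, -⟩ := exists_idx p.1 ∅ ∅ ∅ (by simp) {x}
      (by intro y hy; rw [Finset.mem_singleton.1 hy]; exact hx) ∅ (by simp)
    exact ⟨q, h, hb x (Finset.mem_singleton_self x)⟩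
  · intro y
    obtain ⟨p, -, h1, h2⟩ := hvar (Classical.arbitrary _) {q₁ y} {q₂ y}
    let xb := Ideal.Quotient.mk p.1.I (X ⟨q₁ y, h1 _ (Finset.mem_singleton_self _)⟩)
    let z : MvPolynomial p.1.T R := X ⟨d.g (q₁ y), p.1.hST _ (h1 _ (Finset.mem_singleton_self _))⟩ -
      X ⟨q₂ y, h2 _ (Finset.mem_singleton_self _)⟩
    have hy : f (q₁ y) = i (q₂ y) := congr($(hP.w) y)
    obtain ⟨q, h, -, -, -, -, he⟩ := exists_idx p.1 ∅ ∅ ∅ (by simp) ∅ (by simp) {z}
      (by
        intro w hw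
        rw [Finset.mem_singleton.1 hw]
        simp only [z, map_sub, ev_X, d.hg]
        exact sub_eq_zero.2 hy)
    have he' := he z (Finset.mem_singleton_self z)
    simp only [z, map_sub, sub_eq_zero] at he'
    let xd := Ideal.Quotient.mk p.1.K (X ⟨q₂ y, h2 _ (Finset.mem_singleton_self _)⟩)
    have hmem : (Raw.trB h xb, Raw.trD' h xd) ∈ fp q.1 := by
      rw [AlgHom.mem_equalizer]
      show q.1.φ.comp (Raw.trB h) xb = q.1.ψ.comp (Raw.trD' h) xd
      rw [Raw.φ_trB, Raw.ψ_trD']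
      exact ((congrArg (Raw.trD h) (φ_X p.1 _)).trans he')
    refine ⟨q, ⟨_, hmem⟩, ext2 _ _ ((hp1 _ _ _).trans ?_) ((hp2 _ _ _).trans ?_)⟩
    · exact (AlgHom.congr_fun (Raw.cB_trB h) xb).trans (ev_X _ _)
    · exact (AlgHom.congr_fun (Raw.cD'_trD' h) xd).trans (ev_X _ _)
  · intro p x hx
    obtain ⟨a, ha⟩ := Ideal.Quotient.mk_surjective x.1.1
    obtain ⟨c, hc⟩ := Ideal.Quotient.mk_surjective x.1.2
    have h1 : p.1.cB x.1.1 = 0 := (hp1 _ _ _).symm.trans ((congrArg q₁ hx).trans (map_zero _))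
    have h2 : p.1.cD' x.1.2 = 0 := (hp2 _ _ _).symm.trans ((congrArg q₂ hx).trans (map_zero _))
    rw [← ha] at h1
    rw [← hc] at h2
    obtain ⟨q, h, -, -, ha', hb', -⟩ := exists_idx p.1 ∅ ∅ {a}
      (by intro y hy; rw [Finset.mem_singleton.1 hy]; exact h1) {c}
      (by intro y hy; rw [Finset.mem_singleton.1 hy]; exact h2) ∅ (by simp)
    exact ⟨q, h, Subtype.ext (Prod.ext ((congrArg (Raw.trB h) ha.symm).trans (ha' a (Finset.mem_singleton_self a)))
      ((congrArg (Raw.trD' h) hc.symm).trans (hb' c (Finset.mem_singleton_self c))))⟩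
  · ext x; exact AlgHom.congr_fun j.1.cD_φ x
  · ext x; exact AlgHom.congr_fun j.1.cD_ψ x
  · ext x; exact (hp1 _ _ _).symm
  · ext x; exact (hp2 _ _ _).symm
  · haveI : Algebra.FinitePresentation R j.1.AB := Algebra.FinitePresentation.quotient j.1.hI
    haveI : Algebra.FinitePresentation R j.1.AD := Algebra.FinitePresentation.quotient j.1.hJ
    haveI : Algebra.FinitePresentation R j.1.AD' := Algebra.FinitePresentation.quotient j.1.hK
    exact ⟨fp_obj, fp_obj, fp_obj⟩
  · exact ⟨j.1.ψ_surjective, fun x hx => j.1.ψ_nil x hx⟩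
  · exact IsPullback.of_isLimit (CommRingCat.pullbackConeIsLimit
      (CommRingCat.ofHom j.1.φ.toRingHom) (CommRingCat.ofHom j.1.ψ.toRingHom))

end GrothLib.NilPair8
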