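import Groth.Agent.Lib.NilPair8.Main
import Mathlib.RingTheory.Finiteness.Nilpotent
import Mathlib.RingTheory.RingHom.Finite

/-!
# Maps of integral algebras as colimits of maps of finite, finitely presented algebras
-/

set_option autoImplicit false
set_option backward.isDefEq.respectTransparency false
universe u

open CategoryTheory CategoryTheory.Limits

namespace GrothLib.NilPair8

open MvPolynomial

variable {A B C : Type u} [CommRing A] [CommRing B] [CommRing C] [Algebra A B] [Algebra A C] [Algebra B C]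
  [IsScalarTower A B C]

variable (A B C) in
/-- The data of a map, with trivial thickening. -/
noncomputable def pairDat : Dat A B C C where
  f := IsScalarTower.toAlgHom A B C
  i := AlgHom.id A C
  g := algebraMap B C
  hg _ := rfl
  surj := Function.surjective_id
  nil x hx := by rw [show x = 0 from hx]; exact IsNilpotent.zero

/-- The properties of the stages. -/
def Good2 (p : Raw (pairDat A B C)) : Prop :=
  Good p ∧ Module.Finite A p.AB ∧ Module.Finite A p.AD ∧
  (Function.Surjective (algebraMap A B) → Function.Surjective (algebraMap A p.AB)) ∧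
  (Function.Surjective (algebraMap A C) → Function.Surjective (algebraMap A p.AD))

theorem finite_quot {σ : Type u} [Finite σ] (I : Ideal (MvPolynomial σ A))
    (h : ∀ s, IsIntegral A (Ideal.Quotient.mk I (X s))) : Module.Finite A (MvPolynomial σ A ⧸ I) := by
  haveI : Algebra.IsIntegral A (MvPolynomial σ A ⧸ I) := ⟨fun x => by
    obtain ⟨x, rfl⟩ := Ideal.Quotient.mk_surjective x
    induction x using MvPolynomial.induction_on with
    | C r => exact isIntegral_algebraMap
    | add a b ha hb => rw [map_add]; exact ha.add hb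
    | mul_X a t ha => rw [map_mul]; exact ha.mul (h t)⟩
  exact Algebra.IsIntegral.finite

theorem surjective_quot {σ : Type u} (I : Ideal (MvPolynomial σ A))
    (h : ∀ s, ∃ a : A, X s - MvPolynomial.C a ∈ I) : Function.Surjective (algebraMap A (MvPolynomial σ A ⧸ I)) := by
  intro x
  obtain ⟨x, rfl⟩ := Ideal.Quotient.mk_surjective x
  induction x using MvPolynomial.induction_on with
  | C r => exact ⟨r, rfl⟩
  | add a b ha hb =>
    obtain ⟨y, hy⟩ := ha
    obtain ⟨z, hz⟩ := hb
    exact ⟨y + z, by rw [map_add, map_add, hy, hz]⟩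
  | mul_X a t ha =>
    obtain ⟨y, hy⟩ := ha
    obtain ⟨c, hc⟩ := h t
    exact ⟨y * c, by rw [map_mul, map_mul, hy, Ideal.Quotient.eq.2 hc]; rfl⟩

/-- The relations making a finite set of variables finite, and generating if possible. -/
theorem exists_rels {E : Type u} [CommRing E] [Algebra A E] [Algebra.IsIntegral A E] (S : Finset E) :
    ∃ a : Finset (MvPolynomial S A), (∀ x ∈ a, ev S x = 0) ∧
      ∀ (S' : Finset E) (h : ∀ s ∈ S, id s ∈ S') (_ : S' = S) (I : Ideal (MvPolynomial S' A)),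
        (∀ x ∈ a, ren id h x ∈ I) → Module.Finite A (MvPolynomial S' A ⧸ I) ∧
          (Function.Surjective (algebraMap A E) → Function.Surjective (algebraMap A (MvPolynomial S' A ⧸ I))) := by
  classical
  choose P hPm hP using fun s : S => Algebra.IsIntegral.isIntegral (R := A) (s : E)
  have hc : ∃ c : S → A, Function.Surjective (algebraMap A E) → ∀ s, algebraMap A E (c s) = s := by
    by_cases h : Function.Surjective (algebraMap A E)
    · exact ⟨fun s => (h s).choose, fun _ s => (h s).choose_spec⟩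
    · exact ⟨fun _ => 0, fun h' => absurd h' h⟩
  obtain ⟨c, hc⟩ := hc
  let a₁ : Finset (MvPolynomial S A) := Finset.univ.image fun s => Polynomial.aeval (X s : MvPolynomial S A) (P s)
  let a₂ : Finset (MvPolynomial S A) :=
    if Function.Surjective (algebraMap A E) then Finset.univ.image fun s => X s - MvPolynomial.C (c s) else ∅
  refine ⟨a₁ ∪ a₂, fun x hx => ?_, fun S' h e I hI => ⟨finite_quot I fun s => ?_, fun hs => surjective_quot I fun s => ?_⟩⟩
  · rcases Finset.mem_union.1 hx with hx | hx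
    · obtain ⟨s, -, rfl⟩ := Finset.mem_image.1 hx
      rw [← Polynomial.aeval_algHom_apply, ev_X]
      exact hP s
    · by_cases hs : Function.Surjective (algebraMap A E)
      · simp only [a₂, if_pos hs, Finset.mem_image] at hx
        obtain ⟨s, -, rfl⟩ := hx
        simp [ev, hc hs]
      · simp [a₂, if_neg hs] at hx
  · subst e
    refine ⟨P s, hPm s, ?_⟩
    have h' := hI _ (Finset.mem_union_left _ (Finset.mem_image_of_mem _ (Finset.mem_univ s)))
    rw [ren_self] at h'
    show Polynomial.aeval (Ideal.Quotient.mkₐ A I (X s)) (P s) = 0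
    rw [Polynomial.aeval_algHom_apply]
    exact Ideal.Quotient.eq_zero_iff_mem.2 h'
  · subst e
    refine ⟨c s, ?_⟩
    have h' := hI _ (Finset.mem_union_right _ (show X s - MvPolynomial.C (c s) ∈ a₂ by
      simp only [a₂, if_pos hs]; exact Finset.mem_image_of_mem _ (Finset.mem_univ s)))
    rwa [ren_self] at h'

variable [Algebra.IsIntegral A B] [Algebra.IsIntegral A C]

theorem exists_good2 (p : Raw (pairDat A B C)) : ∃ q : Raw (pairDat A B C), p ≤ q ∧ Good2 q := by
  classical
  have h₀ : ∃ p₁ : Raw (pairDat A B C), p ≤ p₁ ∧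
      (Function.Surjective (pairDat A B C).f → Function.Surjective p₁.φ) := by
    by_cases hf : Function.Surjective (pairDat A B C).f
    · obtain ⟨q, hq, hs⟩ := exists_surjective p hf
      exact ⟨q, hq, fun _ => hs⟩
    · exact ⟨p, le_rfl, fun h => absurd h hf⟩
  obtain ⟨p₁, hp₁, hs₁⟩ := h₀
  obtain ⟨a, ha, hA⟩ := exists_rels (A := A) p₁.S
  obtain ⟨e, he, hE⟩ := exists_rels (A := A) p₁.T
  obtain ⟨q, hpq, rS, rT, h1, h2, ha', -, he'⟩ := p₁.exists_ge p₁.S p₁.T p₁.hST (fun _ h => h) (fun _ h => h)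
    a ha ∅ (by simp) e he
  obtain ⟨fB, sB⟩ := hA q.S h1 rS q.I ha'
  obtain ⟨fD, sD⟩ := hE q.T h2 rT q.J he'
  have hs : Function.Surjective (pairDat A B C).f → Function.Surjective q.φ := fun hf =>
    surjective_of_vars q fun t => by
      obtain ⟨y, hy⟩ := hs₁ hf (Ideal.Quotient.mk p₁.J (X (⟨t, rT.le t.2⟩ : p₁.T)))
      refine ⟨Raw.trB hpq y, ?_⟩
      have h := AlgHom.congr_fun (Raw.φ_trB hpq) y
      rw [AlgHom.comp_apply, AlgHom.comp_apply, hy, Raw.trD_mk hpq h2] at h
      simpa [ren] using h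
  have hint : ∀ r : Raw (pairDat A B C), Module.Finite A r.AD → r.φ.toRingHom.IsIntegral := fun r hr => by
    haveI := hr
    refine RingHom.IsIntegral.tower_top (algebraMap A r.AB) r.φ.toRingHom ?_
    rw [show r.φ.toRingHom.comp (algebraMap A r.AB) = algebraMap A r.AD from r.φ.comp_algebraMap]
    exact fun x => Algebra.IsIntegral.isIntegral x
  by_cases hn : Function.Surjective (pairDat A B C).f ∧ ∀ x, (pairDat A B C).f x = 0 → IsNilpotent x
  · obtain ⟨r, hqr, hrs, hrn, hB, hD⟩ := exists_nil q (hs hn.1) hn.2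
    have fDr : Module.Finite A r.AD := Module.Finite.of_surjective (Raw.trD hqr).toLinearMap
      hD
    exact ⟨r, hp₁.trans (hpq.trans hqr), ⟨fun _ => hrs, fun _ _ => hrn, fun _ => hint r fDr⟩,
      Module.Finite.of_surjective (Raw.trB hqr).toLinearMap hB, fDr,
      fun h => by rw [← (Raw.trB hqr).comp_algebraMap]; exact hB.comp (sB h),
      fun h => by rw [← (Raw.trD hqr).comp_algebraMap]; exact hD.comp (sD h)⟩
  · exact ⟨q, hp₁.trans hpq, ⟨hs, fun h h' => absurd ⟨h, h'⟩ hn, fun _ => hint q fD⟩, fB, fD, sB, sD⟩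

variable (A B C) in
/-- The index set. -/
abbrev Idx2 : Type u := {p : Raw (pairDat A B C) // Good2 p}

instance : Nonempty (Idx2 A B C) := by
  obtain ⟨q, -, hq⟩ := exists_good2 (rawBot (pairDat A B C))
  exact ⟨⟨q, hq⟩⟩

instance : IsDirectedOrder (Idx2 A B C) := ⟨fun p q => by
  obtain ⟨r, h1, h2⟩ := directed (d := pairDat A B C) ⟨p.1, p.2.1⟩ ⟨q.1, q.2.1⟩
  obtain ⟨r', hr, hg⟩ := exists_good2 r.1
  exact ⟨⟨r', hg⟩, (le_trans (show p.1 ≤ r.1 from h1) hr : p.1 ≤ r'), (le_trans (show q.1 ≤ r.1 from h2) hr : q.1 ≤ r')⟩⟩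

theorem exists_idx2 (p : Raw (pairDat A B C)) (S' : Finset B) (T' : Finset C)
    (a : Finset (MvPolynomial p.S A)) (ha : ∀ x ∈ a, ev p.S x = 0)
    (e : Finset (MvPolynomial p.T A)) (he : ∀ x ∈ e, ev p.T x = 0) :
    ∃ (q : Idx2 A B C) (h : p ≤ q.1), (∀ s ∈ S', s ∈ q.1.S) ∧ (∀ t ∈ T', t ∈ q.1.T) ∧
      (∀ x ∈ a, Raw.trB h (Ideal.Quotient.mk p.I x) = 0) ∧
      (∀ x ∈ e, Raw.trD h (Ideal.Quotient.mk p.J x) = 0) := by
  obtain ⟨q, h, k1, k2, za, -, ze⟩ := exists_idx p S' T' a ha ∅ (by simp) e he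
  obtain ⟨r, hr, hg⟩ := exists_good2 q.1
  obtain ⟨l1, l2, -⟩ := id hr
  exact ⟨⟨r, hg⟩, h.trans hr, fun s hs => l1 s (k1 s hs), fun t ht => l2 t (k2 t ht),
    fun x hx => by rw [trB_comp h hr, AlgHom.comp_apply, za x hx, map_zero],
    fun x hx => by rw [trD_comp h hr, AlgHom.comp_apply, ze x hx, map_zero]⟩

variable (A B C) in
/-- The inclusion in the good stages. -/
noncomputable def idxFun : Idx2 A B C ⥤ Idx (pairDat A B C) :=
  (show Monotone fun p : Idx2 A B C => (⟨p.1, p.2.1⟩ : Idx (pairDat A B C)) from fun _ _ h => h).functor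

theorem main2 :
    ∃ (ι : Type u) (_ : SmallCategory ι) (_ : IsFiltered ι) (DB DC : ι ⥤ Under (CommRingCat.of A)) (τ : DB ⟶ DC)
      (cB : DB ⟶ (Functor.const ι).obj (Under.mk (CommRingCat.ofHom (algebraMap A B))))
      (cC : DC ⟶ (Functor.const ι).obj (Under.mk (CommRingCat.ofHom (algebraMap A C)))),
      Nonempty (IsColimit (Cocone.mk _ cB)) ∧ Nonempty (IsColimit (Cocone.mk _ cC)) ∧
      (∀ i, (τ.app i).right ≫ (cC.app i).right = (cB.app i).right ≫ CommRingCat.ofHom (algebraMap B C)) ∧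
      (∀ i, (DB.obj i).hom.hom.Finite ∧ (DB.obj i).hom.hom.FinitePresentation ∧
        (DC.obj i).hom.hom.Finite ∧ (DC.obj i).hom.hom.FinitePresentation) ∧
      (Function.Surjective (algebraMap A B) → ∀ i, Function.Surjective (DB.obj i).hom.hom) ∧
      (Function.Surjective (algebraMap B C) → ∀ i, Function.Surjective (τ.app i).right.hom) ∧
      (Function.Surjective (algebraMap A C) → ∀ i, Function.Surjective (DC.obj i).hom.hom) ∧
      (Function.Surjective (algebraMap A B) → IsNilpotent (RingHom.ker (algebraMap A B)) →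
        ∀ i, Function.Surjective (DB.obj i).hom.hom ∧ IsNilpotent (RingHom.ker (DB.obj i).hom.hom)) ∧
      (Function.Surjective (algebraMap B C) → IsNilpotent (RingHom.ker (algebraMap B C)) →
        ∀ i, Function.Surjective (τ.app i).right.hom ∧ IsNilpotent (RingHom.ker (τ.app i).right.hom)) ∧
      (Function.Surjective (algebraMap A C) → IsNilpotent (RingHom.ker (algebraMap A C)) →
        ∀ i, Function.Surjective (DC.obj i).hom.hom ∧ IsNilpotent (RingHom.ker (DC.obj i).hom.hom)) := by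
  classical
  let d := pairDat A B C
  let DB : Idx2 A B C ⥤ Under (CommRingCat.of A) := idxFun A B C ⋙ sysB d
  let DC : Idx2 A B C ⥤ Under (CommRingCat.of A) := idxFun A B C ⋙ sysD d
  let τ : DB ⟶ DC :=
    { app := fun p => hom p.1.φ
      naturality := fun p q h => by ext x; exact AlgHom.congr_fun (Raw.φ_trB (leOfHom h)) x }
  let cB : DB ⟶ (Functor.const _).obj (obj B) :=
    { app := fun p => hom p.1.cB
      naturality := fun p q h => by ext x; exact AlgHom.congr_fun (Raw.cB_trB (leOfHom h)) x }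
  let cC : DC ⟶ (Functor.const _).obj (obj C) :=
    { app := fun p => hom p.1.cD
      naturality := fun p q h => by ext x; exact AlgHom.congr_fun (Raw.cD_trD (leOfHom h)) x }
  have kerle : ∀ {E E' : Type u} [CommRing E] [CommRing E'] [Algebra A E] [Algebra A E'] (g : E →ₐ[A] E'),
      IsNilpotent (RingHom.ker (algebraMap A E')) → IsNilpotent (RingHom.ker (algebraMap A E)) := by
    intro E E' _ _ _ _ g ⟨n, hn⟩
    refine ⟨n, le_bot_iff.1 ((Ideal.pow_right_mono (fun x hx => ?_) n).trans hn.le)⟩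
    rw [RingHom.mem_ker] at hx ⊢
    rw [← g.commutes, hx, map_zero]
  refine ⟨Idx2 A B C, inferInstance, inferInstance, DB, DC, τ, cB, cC,
    isColimit_of_directed _ ?_ ?_, isColimit_of_directed _ ?_ ?_, fun j => ?_, fun j => ?_,
    fun h j => j.2.2.2.2.1 h, fun h j => j.2.1.1 h, fun h j => j.2.2.2.2.2 h,
    fun h hn j => ⟨j.2.2.2.2.1 h, kerle j.1.cB hn⟩, fun h hn j => ?_,
    fun h hn j => ⟨j.2.2.2.2.2 h, kerle j.1.cD hn⟩⟩
  · intro b
    obtain ⟨q, -, h1, -⟩ := exists_idx2 (rawBot d) {b} ∅ ∅ (by simp) ∅ (by simp)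
    exact ⟨q, Ideal.Quotient.mk q.1.I (X ⟨b, h1 b (Finset.mem_singleton_self b)⟩), ev_X (R := A) q.1.S ⟨b, _⟩⟩
  · intro p x hx
    obtain ⟨x, rfl⟩ := Ideal.Quotient.mk_surjective x
    obtain ⟨q, h, -, -, ha, -⟩ := exists_idx2 p.1 ∅ ∅ {x}
      (by intro y hy; rw [Finset.mem_singleton.1 hy]; exact hx) ∅ (by simp)
    exact ⟨q, h, ha x (Finset.mem_singleton_self x)⟩
  · intro c
    obtain ⟨q, -, -, h2, -⟩ := exists_idx2 (rawBot d) ∅ {c} ∅ (by simp) ∅ (by simp)
    exact ⟨q, Ideal.Quotient.mk q.1.J (X ⟨c, h2 c (Finset.mem_singleton_self c)⟩), ev_X (R := A) q.1.T ⟨c, _⟩⟩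
  · intro p x hx
    obtain ⟨x, rfl⟩ := Ideal.Quotient.mk_surjective x
    obtain ⟨q, h, -, -, -, he⟩ := exists_idx2 p.1 ∅ ∅ ∅ (by simp) {x}
      (by intro y hy; rw [Finset.mem_singleton.1 hy]; exact hx)
    exact ⟨q, h, he x (Finset.mem_singleton_self x)⟩
  · ext x; exact AlgHom.congr_fun j.1.cD_φ x
  · haveI : Algebra.FinitePresentation A j.1.AB := Algebra.FinitePresentation.quotient j.1.hI
    haveI : Algebra.FinitePresentation A j.1.AD := Algebra.FinitePresentation.quotient j.1.hJ
    exact ⟨RingHom.finite_algebraMap.2 j.2.2.1, fp_obj (A := j.1.AB), RingHom.finite_algebraMap.2 j.2.2.2.1,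
      fp_obj (A := j.1.AD)⟩
  · refine ⟨j.2.1.1 h, ?_⟩
    haveI : Algebra.FinitePresentation A j.1.AB := Algebra.FinitePresentation.quotient j.1.hI
    haveI : Algebra.FinitePresentation A j.1.AD := Algebra.FinitePresentation.quotient j.1.hJ
    have hfg : (RingHom.ker j.1.φ.toRingHom).FG :=
      Algebra.FinitePresentation.ker_fG_of_surjective j.1.φ (j.2.1.1 h)
    obtain ⟨n, hn'⟩ := hn
    obtain ⟨k, hk⟩ := Ideal.exists_pow_le_of_le_radical_of_fg
      (show RingHom.ker j.1.φ.toRingHom ≤ (⊥ : Ideal j.1.AB).radical from fun x hx => by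
        obtain ⟨m, hm⟩ := j.2.1.2.1 h (fun y hy => ⟨n, by
          have : y ^ n ∈ RingHom.ker (algebraMap B C) ^ n := Ideal.pow_mem_pow hy n
          rw [hn'] at this
          exact this⟩) x hx
        exact ⟨m, hm⟩) hfg
    exact ⟨k, le_bot_iff.1 hk⟩

end GrothLib.NilPair8
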