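import Mathlib.RingTheory.FinitePresentation
import Mathlib.RingTheory.Nilpotent.Lemmas
import Mathlib.RingTheory.Noetherian.Basic
import Mathlib.Algebra.MvPolynomial.Rename
import Mathlib.RingTheory.Ideal.Quotient.Operations
import Mathlib.RingTheory.IntegralClosure.Algebra.Basic
import Mathlib.RingTheory.IntegralClosure.IsIntegralClosure.Basic

/-!
# Finitely presented stages of a pair `B → D ← D'` with `D' → D` surjective with nil kernel
-/

set_option autoImplicit false
universe u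

namespace GrothLib.NilPair8

open MvPolynomial

variable {R : Type u} [CommRing R]

/-- Evaluation of variables indexed by a finite subset. -/
noncomputable def ev {A : Type u} [CommRing A] [Algebra R A] (E : Finset A) : MvPolynomial E R →ₐ[R] A :=
  aeval fun e : E => (e : A)

/-- Renaming along a map of finite index sets. -/
noncomputable def ren {α β : Type u} {E : Finset α} {E' : Finset β} (g : α → β) (h : ∀ e ∈ E, g e ∈ E') :
    MvPolynomial E R →ₐ[R] MvPolynomial E' R :=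
  rename fun e : E => (⟨g e, h e e.2⟩ : E')

theorem ev_X {A : Type u} [CommRing A] [Algebra R A] (E : Finset A) (e : E) : ev (R := R) E (X e) = (e : A) :=
  aeval_X _ _

theorem ren_X {α β : Type u} {E : Finset α} {E' : Finset β} (g : α → β) (h : ∀ e ∈ E, g e ∈ E') (e : E) :
    ren (R := R) g h (X e) = X (⟨g e, h e e.2⟩ : E') :=
  rename_X _ _

/-- The data: `i : D' → D` surjective with nil kernel, `f : B → D`, and a set-theoretic lift of `f`. -/
structure Dat (R B D D' : Type u) [CommRing R] [CommRing B] [CommRing D] [CommRing D'] [Algebra R B]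
    [Algebra R D] [Algebra R D'] where
  f : B →ₐ[R] D
  i : D' →ₐ[R] D
  g : B → D'
  hg : ∀ b, i (g b) = f b
  surj : Function.Surjective i
  nil : ∀ x, i x = 0 → IsNilpotent x

variable {B D D' : Type u} [CommRing B] [CommRing D] [CommRing D'] [Algebra R B] [Algebra R D] [Algebra R D']

/-- A finitely presented stage. -/
structure Raw (d : Dat R B D D') : Type u where
  S : Finset B
  T : Finset D'
  hST : ∀ s ∈ S, d.g s ∈ T
  I : Ideal (MvPolynomial S R)
  K : Ideal (MvPolynomial T R)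
  J : Ideal (MvPolynomial T R)
  hI : I.FG
  hK : K.FG
  hJ : J.FG
  leI : I ≤ RingHom.ker (ev S)
  leK : K ≤ RingHom.ker (ev T)
  leJ : J ≤ RingHom.ker (d.i.comp (ev T))
  hKJ : K ≤ J
  hJK : J ≤ K.radical
  hIJ : I ≤ J.comap (ren d.g hST)

variable {d : Dat R B D D'}

instance : Preorder (Raw d) where
  le p q := ∃ (hS : ∀ s ∈ p.S, id s ∈ q.S) (hT : ∀ t ∈ p.T, id t ∈ q.T),
    p.I ≤ q.I.comap (ren id hS) ∧ p.K ≤ q.K.comap (ren id hT) ∧ p.J ≤ q.J.comap (ren id hT)
  le_refl p := by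
    have h1 : ren (R := R) id (fun s (hs : s ∈ p.S) => hs) = AlgHom.id R _ :=
      algHom_ext fun e => by simp [ren]
    have h2 : ren (R := R) id (fun s (hs : s ∈ p.T) => hs) = AlgHom.id R _ :=
      algHom_ext fun e => by simp [ren]
    refine ⟨fun s hs => hs, fun s hs => hs, ?_, ?_, ?_⟩ <;>
      (intro x hx; rw [Ideal.mem_comap]; simp only [h1, h2]; exact hx)
  le_trans p q r := fun ⟨hS, hT, h1, h2, h3⟩ ⟨hS', hT', h1', h2', h3'⟩ => by
    have e : ∀ {α : Type u} {E E' E'' : Finset α} (h : ∀ e ∈ E, id e ∈ E') (h' : ∀ e ∈ E', id e ∈ E'')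
        (x : MvPolynomial E R), ren id h' (ren id h x) = ren id (fun e he => h' e (h e he)) x := fun h h' x => by
      simp only [ren, rename_rename]
      rfl
    refine ⟨fun s hs => hS' s (hS s hs), fun s hs => hT' s (hT s hs), ?_, ?_, ?_⟩
    · intro x hx; rw [Ideal.mem_comap, ← e hS hS']; exact h1' (h1 hx)
    · intro x hx; rw [Ideal.mem_comap, ← e hT hT']; exact h2' (h2 hx)
    · intro x hx; rw [Ideal.mem_comap, ← e hT hT']; exact h3' (h3 hx)

theorem ren_id_id {α : Type u} {E E' E'' : Finset α} (h : ∀ e ∈ E, id e ∈ E') (h' : ∀ e ∈ E', id e ∈ E'') :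
    (ren (R := R) id h').comp (ren id h) = ren id (fun e he => h' e (h e he)) :=
  algHom_ext fun e => by simp [ren]

theorem ev_ren {A : Type u} [CommRing A] [Algebra R A] {E E' : Finset A} (h : ∀ e ∈ E, id e ∈ E') :
    (ev (R := R) E').comp (ren id h) = ev E :=
  algHom_ext fun e => by simp [ev, ren]

theorem ev_gmap {S : Finset B} {T : Finset D'} (h : ∀ s ∈ S, d.g s ∈ T) :
    (d.i.comp (ev (R := R) T)).comp (ren d.g h) = d.f.comp (ev S) :=
  algHom_ext fun e => by simp [ev, ren, d.hg]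

theorem gmap_ren {S S' : Finset B} {T T' : Finset D'} (hS : ∀ s ∈ S, id s ∈ S') (hT : ∀ t ∈ T, id t ∈ T')
    (h : ∀ s ∈ S, d.g s ∈ T) (h' : ∀ s ∈ S', d.g s ∈ T') :
    (ren (R := R) d.g h').comp (ren id hS) = (ren id hT).comp (ren d.g h) :=
  algHom_ext fun e => by simp [ren]

theorem ren_self {α : Type u} {E : Finset α} (x : MvPolynomial E R) :
    ren (R := R) id (fun e (he : e ∈ E) => he) x = x :=
  rename_id_apply x

namespace Raw

/-- Enlarging the index sets and adding finitely many relations. -/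
theorem exists_ge (p : Raw d) (S' : Finset B) (T' : Finset D') (hST' : ∀ s ∈ S', d.g s ∈ T')
    (hS : ∀ s ∈ p.S, id s ∈ S') (hT : ∀ t ∈ p.T, id t ∈ T')
    (a : Finset (MvPolynomial S' R)) (ha : ∀ x ∈ a, ev S' x = 0)
    (b : Finset (MvPolynomial T' R)) (hb : ∀ x ∈ b, ev T' x = 0)
    (e : Finset (MvPolynomial T' R)) (he : ∀ x ∈ e, d.i (ev T' x) = 0) :
    ∃ q : Raw d, p ≤ q ∧ q.S = S' ∧ q.T = T' ∧ ∃ (h1 : ∀ s ∈ S', id s ∈ q.S) (h2 : ∀ t ∈ T', id t ∈ q.T),
      (∀ x ∈ a, ren id h1 x ∈ q.I) ∧ (∀ x ∈ b, ren id h2 x ∈ q.K) ∧ (∀ x ∈ e, ren id h2 x ∈ q.J) := by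
  classical
  -- the new members of the big ideal and their exponents
  let e' : Finset (MvPolynomial T' R) := e ∪ a.image (ren d.g hST')
  have he' : ∀ x ∈ e', d.i (ev T' x) = 0 := by
    intro x hx
    rcases Finset.mem_union.1 hx with h | h
    · exact he x h
    · obtain ⟨y, hy, rfl⟩ := Finset.mem_image.1 h
      exact (AlgHom.congr_fun (ev_gmap hST') y).trans (by rw [AlgHom.comp_apply, ha y hy, map_zero])
  have hN : ∀ x : e', ∃ N : ℕ, ev T' (x : MvPolynomial T' R) ^ N = 0 := fun x => d.nil _ (he' x x.2)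
  choose N hN using hN
  let b' : Finset (MvPolynomial T' R) := b ∪ e'.attach.image fun x : e' => (x : MvPolynomial T' R) ^ N x
  have hb' : ∀ x ∈ b', ev T' x = 0 := by
    intro x hx
    rcases Finset.mem_union.1 hx with h | h
    · exact hb x h
    · obtain ⟨y, -, rfl⟩ := Finset.mem_image.1 h
      rw [map_pow, hN]
  let I' := p.I.map (ren id hS) ⊔ Ideal.span a
  let K' := p.K.map (ren id hT) ⊔ Ideal.span b'
  let J' := p.J.map (ren id hT) ⊔ Ideal.span (↑e' ∪ ↑b')
  have hJK : J' ≤ K'.radical := by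
    refine sup_le (Ideal.map_le_iff_le_comap.2 fun x hx => ?_) (Ideal.span_le.2 ?_)
    · obtain ⟨k, hk⟩ := p.hJK hx
      exact ⟨k, Ideal.mem_sup_left (by rw [← map_pow]; exact Ideal.mem_map_of_mem _ hk)⟩
    · rintro x (hx | hx)
      · exact ⟨N ⟨x, Finset.mem_coe.1 hx⟩, Ideal.mem_sup_right (Ideal.subset_span (Finset.mem_union_right _
          (Finset.mem_image.2 ⟨⟨x, hx⟩, Finset.mem_attach _ _, rfl⟩)))⟩
      · exact ⟨1, by rw [pow_one]; exact Ideal.mem_sup_right (Ideal.subset_span hx)⟩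
  refine ⟨⟨S', T', hST', I', K', J', Submodule.FG.sup (Ideal.FG.map p.hI (ren id hS).toRingHom) ⟨a, rfl⟩,
    Submodule.FG.sup (Ideal.FG.map p.hK (ren id hT).toRingHom) ⟨b', rfl⟩,
    Submodule.FG.sup (Ideal.FG.map p.hJ (ren id hT).toRingHom) ⟨e' ∪ b', by rw [Finset.coe_union]⟩,
    ?_, ?_, ?_, ?_, hJK, ?_⟩,
    ⟨hS, hT, Ideal.map_le_iff_le_comap.1 le_sup_left, Ideal.map_le_iff_le_comap.1 le_sup_left,
      Ideal.map_le_iff_le_comap.1 le_sup_left⟩, rfl, rfl, fun _ h => h, fun _ h => h,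
    fun x hx => ?_, fun x hx => ?_, fun x hx => ?_⟩
  · refine sup_le (Ideal.map_le_iff_le_comap.2 fun x hx => ?_) (Ideal.span_le.2 ha)
    exact (AlgHom.congr_fun (ev_ren hS) x).trans (p.leI hx)
  · refine sup_le (Ideal.map_le_iff_le_comap.2 fun x hx => ?_) (Ideal.span_le.2 hb')
    exact (AlgHom.congr_fun (ev_ren hT) x).trans (p.leK hx)
  · refine sup_le (Ideal.map_le_iff_le_comap.2 fun x hx => ?_) (Ideal.span_le.2 ?_)
    · rw [Ideal.mem_comap, RingHom.mem_ker, AlgHom.comp_apply]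
      exact (congrArg d.i (AlgHom.congr_fun (ev_ren hT) x)).trans (p.leJ hx)
    · rintro x (hx | hx)
      · exact he' x hx
      · exact (congrArg d.i (hb' x hx)).trans (map_zero _)
  · exact sup_le_sup (Ideal.map_mono p.hKJ) (Ideal.span_mono Set.subset_union_right)
  · refine sup_le (Ideal.map_le_iff_le_comap.2 fun x hx => ?_) (Ideal.span_le.2 fun x hx => ?_)
    · rw [Ideal.mem_comap, Ideal.mem_comap]
      show (ren d.g hST').comp (ren id hS) x ∈ J'
      rw [gmap_ren hS hT p.hST hST']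
      exact Ideal.mem_sup_left (Ideal.mem_map_of_mem _ (p.hIJ hx))
    · exact Ideal.mem_sup_right (Ideal.subset_span (Or.inl (Finset.mem_union_right _
        (Finset.mem_image_of_mem _ hx))))
  · exact (ren_self x).symm ▸ Ideal.mem_sup_right (Ideal.subset_span hx)
  · exact (ren_self x).symm ▸ Ideal.mem_sup_right (Ideal.subset_span (Finset.mem_union_left _ hx))
  · exact (ren_self x).symm ▸ Ideal.mem_sup_right (Ideal.subset_span (Or.inl (Finset.mem_union_left _ hx)))

/-- The algebras of a stage. -/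
abbrev AB (p : Raw d) : Type u := MvPolynomial p.S R ⧸ p.I

/-- The algebras of a stage. -/
abbrev AD' (p : Raw d) : Type u := MvPolynomial p.T R ⧸ p.K

/-- The algebras of a stage. -/
abbrev AD (p : Raw d) : Type u := MvPolynomial p.T R ⧸ p.J

/-- The maps to the vertices. -/
noncomputable def cB (p : Raw d) : p.AB →ₐ[R] B := Ideal.Quotient.liftₐ p.I (ev p.S) fun _ h => p.leI h

/-- The maps to the vertices. -/
noncomputable def cD' (p : Raw d) : p.AD' →ₐ[R] D' := Ideal.Quotient.liftₐ p.K (ev p.T) fun _ h => p.leK h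

/-- The maps to the vertices. -/
noncomputable def cD (p : Raw d) : p.AD →ₐ[R] D :=
  Ideal.Quotient.liftₐ p.J (d.i.comp (ev p.T)) fun _ h => p.leJ h

/-- The map `B_j → D_j`. -/
noncomputable def φ (p : Raw d) : p.AB →ₐ[R] p.AD :=
  Ideal.Quotient.liftₐ p.I ((Ideal.Quotient.mkₐ R p.J).comp (ren d.g p.hST))
    fun _ h => Ideal.Quotient.eq_zero_iff_mem.2 (p.hIJ h)

/-- The map `D'_j → D_j`. -/
noncomputable def ψ (p : Raw d) : p.AD' →ₐ[R] p.AD := Ideal.Quotient.factorₐ R p.hKJ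

theorem cD_φ (p : Raw d) : p.cD.comp p.φ = d.f.comp p.cB :=
  Ideal.Quotient.algHom_ext _ (algHom_ext fun e => by simp [cD, φ, cB, ev, ren, d.hg])

theorem cD_ψ (p : Raw d) : p.cD.comp p.ψ = d.i.comp p.cD' :=
  Ideal.Quotient.algHom_ext _ (algHom_ext fun e => by simp [cD, ψ, cD', ev])

theorem ψ_surjective (p : Raw d) : Function.Surjective p.ψ := fun x => by
  obtain ⟨x, rfl⟩ := Ideal.Quotient.mk_surjective x
  exact ⟨Ideal.Quotient.mk p.K x, rfl⟩

theorem ψ_nil (p : Raw d) (x : p.AD') (hx : p.ψ x = 0) : IsNilpotent x := by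
  obtain ⟨x, rfl⟩ := Ideal.Quotient.mk_surjective x
  obtain ⟨k, hk⟩ := p.hJK (Ideal.Quotient.eq_zero_iff_mem.1 hx)
  exact ⟨k, by rw [← map_pow]; exact Ideal.Quotient.eq_zero_iff_mem.2 hk⟩

/-- The transition maps. -/
noncomputable def trB {p q : Raw d} (h : p ≤ q) : p.AB →ₐ[R] q.AB :=
  Ideal.Quotient.liftₐ p.I ((Ideal.Quotient.mkₐ R q.I).comp (ren id h.choose))
    fun _ hx => Ideal.Quotient.eq_zero_iff_mem.2 (h.choose_spec.choose_spec.1 hx)

/-- The transition maps. -/
noncomputable def trD' {p q : Raw d} (h : p ≤ q) : p.AD' →ₐ[R] q.AD' :=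
  Ideal.Quotient.liftₐ p.K ((Ideal.Quotient.mkₐ R q.K).comp (ren id h.choose_spec.choose))
    fun _ hx => Ideal.Quotient.eq_zero_iff_mem.2 (h.choose_spec.choose_spec.2.1 hx)

/-- The transition maps. -/
noncomputable def trD {p q : Raw d} (h : p ≤ q) : p.AD →ₐ[R] q.AD :=
  Ideal.Quotient.liftₐ p.J ((Ideal.Quotient.mkₐ R q.J).comp (ren id h.choose_spec.choose))
    fun _ hx => Ideal.Quotient.eq_zero_iff_mem.2 (h.choose_spec.choose_spec.2.2 hx)

theorem trB_mk {p q : Raw d} (h : p ≤ q) (hS : ∀ s ∈ p.S, id s ∈ q.S) (x : MvPolynomial p.S R) :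
    trB h (Ideal.Quotient.mk p.I x) = Ideal.Quotient.mk q.I (ren id hS x) := rfl

theorem trD'_mk {p q : Raw d} (h : p ≤ q) (hT : ∀ s ∈ p.T, id s ∈ q.T) (x : MvPolynomial p.T R) :
    trD' h (Ideal.Quotient.mk p.K x) = Ideal.Quotient.mk q.K (ren id hT x) := rfl

theorem trD_mk {p q : Raw d} (h : p ≤ q) (hT : ∀ s ∈ p.T, id s ∈ q.T) (x : MvPolynomial p.T R) :
    trD h (Ideal.Quotient.mk p.J x) = Ideal.Quotient.mk q.J (ren id hT x) := rfl

theorem φ_trB {p q : Raw d} (h : p ≤ q) : q.φ.comp (trB h) = (trD h).comp p.φ :=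
  Ideal.Quotient.algHom_ext _ (algHom_ext fun e => by simp [φ, trB, trD, ren])

theorem ψ_trD' {p q : Raw d} (h : p ≤ q) : q.ψ.comp (trD' h) = (trD h).comp p.ψ :=
  Ideal.Quotient.algHom_ext _ (algHom_ext fun e => by simp [ψ, trD', trD, ren])

theorem cB_trB {p q : Raw d} (h : p ≤ q) : q.cB.comp (trB h) = p.cB :=
  Ideal.Quotient.algHom_ext _ (algHom_ext fun e => by simp [cB, trB, ren, ev])

theorem cD'_trD' {p q : Raw d} (h : p ≤ q) : q.cD'.comp (trD' h) = p.cD' :=
  Ideal.Quotient.algHom_ext _ (algHom_ext fun e => by simp [cD', trD', ren, ev])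

theorem cD_trD {p q : Raw d} (h : p ≤ q) : q.cD.comp (trD h) = p.cD :=
  Ideal.Quotient.algHom_ext _ (algHom_ext fun e => by simp [cD, trD, ren, ev])

end Raw

end GrothLib.NilPair8
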